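-- helper61: the normal core of N P' lies in every p'-degree kernel; and conversely (for S4591).
import Mathlib
import Cfsg.Prelude.Def_Characters
import Cfsg.Prelude.Def_Transfer
import Cfsg.Agent.Lib.Helper80.CharOps
import Cfsg.Agent.Lib.Helper80.CharKer
import Cfsg.Agent.Lib.Helper15.OddDeg
import Cfsg.Agent.Lib.Helper15.NormExt
import Cfsg.Agent.Lib.Helper81.RealPrime
import Cfsg.Agent.Lib.Helper53.PGroups
import Cfsg.Agent.Lib.Helper55.Tate
import Cfsg.Agent.Lib.Helper2.FrattiniP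
import Cfsg.Agent.Lib.Helper11.ZJ
import Cfsg.Agent.Lib.Helper61.PK.Ker
import Cfsg.Agent.Lib.Helper61.PK.LinSep
import Cfsg.Agent.Lib.Helper61.PK.Fix

set_option autoImplicit false
set_option linter.style.haveILetI false

namespace Cfsg.Agent.Lib.Helper61.PK

open Cfsg.Agent.Lib.Helper80

universe u

/-- A normal subgroup meeting the centralizer of the Sylow `p`-subgroup `P` trivially meets `P`
trivially. -/
theorem inf_sylow_eq_bot {G : Type u} [Group G] [Finite G] (p : ℕ) [Fact p.Prime]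
    (P : Sylow p G) (N : Subgroup G) [hNn : N.Normal]
    (hN : N ⊓ Subgroup.centralizer ((P : Subgroup G) : Set G) = ⊥) :
    N ⊓ (P : Subgroup G) = ⊥ := by
  by_contra hne
  have hPN : (P : Subgroup G) ≤ Subgroup.normalizer ((N ⊓ (P : Subgroup G) : Subgroup G) : Set G) := by
    intro g hg
    rw [Subgroup.mem_normalizer_iff]
    intro h
    constructor
    · rintro ⟨h1, h2⟩
      exact ⟨hNn.conj_mem h h1 g,
        Subgroup.mul_mem _ (Subgroup.mul_mem _ hg h2) (Subgroup.inv_mem _ hg)⟩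
    · rintro ⟨h1, h2⟩
      have e : h = g⁻¹ * (g * h * g⁻¹) * g⁻¹⁻¹ := by group
      rw [e]
      exact ⟨hNn.conj_mem _ h1 g⁻¹,
        Subgroup.mul_mem _ (Subgroup.mul_mem _ (Subgroup.inv_mem _ hg) h2)
          (Subgroup.inv_mem _ (Subgroup.inv_mem _ hg))⟩
  obtain ⟨w, hw, hw1, hwc⟩ := Cfsg.Agent.Lib.Helper53.exists_mem_center_of_normal_subgroup
    (P := (P : Subgroup G)) (M := N ⊓ (P : Subgroup G)) P.isPGroup' inf_le_right hPN hne
  apply hw1
  have h : w ∈ N ⊓ Subgroup.centralizer ((P : Subgroup G) : Set G) :=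
    ⟨hw.1, Subgroup.mem_centralizer_iff.mpr (fun g hg => hwc g hg)⟩
  rw [hN, Subgroup.mem_bot] at h
  exact h

/-- If `C_N(P) = 1` for the normal subgroup `N`, the normal core of `N P'` lies in the kernel of
every irreducible character of `p'`-degree. -/
theorem core_mem_ker {G : Type u} [Group G] [Finite G] (p : ℕ) [Fact p.Prime] (P : Sylow p G)
    (N : Subgroup G) [hNn : N.Normal]
    (hN : N ⊓ Subgroup.centralizer ((P : Subgroup G) : Set G) = ⊥)
    (χ : Cfsg.IrrCharacter G) (hχ : ¬ p ∣ Cfsg.charDegree (χ : G → ℂ)) :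
    ∀ x ∈ (N ⊔ ⁅(P : Subgroup G), (P : Subgroup G)⁆).normalCore,
      (χ : G → ℂ) x = (χ : G → ℂ) 1 := by
  classical
  have hinf := inf_sylow_eq_bot p P N hN
  have hcop := Cfsg.Agent.Lib.Helper15.od_coprime_of_inf_sylow p P N hinf
  have hfix : ∀ k ∈ N, (∀ u ∈ (P : Subgroup G), u * k = k * u) → k = 1 := by
    intro k hk hc
    have h : k ∈ N ⊓ Subgroup.centralizer ((P : Subgroup G) : Set G) :=
      ⟨hk, Subgroup.mem_centralizer_iff.mpr (fun g hg => hc g hg)⟩
    rw [hN, Subgroup.mem_bot] at h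
    exact h
  have hNker := Cfsg.Agent.Lib.Helper15.od_ker_of_fpf p N (P : Subgroup G) P.isPGroup' hcop hfix
    χ.2 hχ
  obtain ⟨ψ, hψ, hψχ⟩ := exists_isIrrCharacter_deflate N χ.2 hNker
  have hsurj := QuotientGroup.mk'_surjective N
  set Pbar : Sylow p (G ⧸ N) := P.mapSurjective hsurj with hPbar
  have hPbar' : (Pbar : Subgroup (G ⧸ N)) = (P : Subgroup G).map (QuotientGroup.mk' N) :=
    Sylow.coe_mapSurjective hsurj P
  set D : Subgroup G := (N ⊔ ⁅(P : Subgroup G), (P : Subgroup G)⁆).normalCore with hD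
  haveI hDbar : (D.map (QuotientGroup.mk' N)).Normal :=
    Subgroup.Normal.map (Subgroup.normalCore_normal _) _ hsurj
  have hle : D.map (QuotientGroup.mk' N) ≤ ⁅(Pbar : Subgroup (G ⧸ N)), (Pbar : Subgroup (G ⧸ N))⁆ := by
    rw [hPbar', ← Subgroup.map_commutator]
    refine (Subgroup.map_mono (Subgroup.normalCore_le _)).trans ?_
    rw [Subgroup.map_sup, QuotientGroup.map_mk'_self, bot_sup_eq]
  have hone : ψ 1 = (χ : G → ℂ) 1 := hψχ 1
  have hdegeq : Cfsg.charDegree ψ = Cfsg.charDegree (χ : G → ℂ) := by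
    have h1 := char_one_eq_charDegree (isCharacter_of_isIrrCharacter hψ)
    have h2 := char_one_eq_charDegree (isCharacter_of_isIrrCharacter χ.2)
    have h3 := hone
    rw [h1, h2] at h3
    exact_mod_cast h3
  have hψdeg : ¬ p ∣ Cfsg.charDegree ((⟨ψ, hψ⟩ : Cfsg.IrrCharacter (G ⧸ N)) : G ⧸ N → ℂ) := by
    show ¬ p ∣ Cfsg.charDegree ψ
    rw [hdegeq]
    exact hχ
  have hker := Cfsg.Agent.Lib.Helper81.ker_of_pprime_degree p Pbar (D.map (QuotientGroup.mk' N))
    hle ⟨ψ, hψ⟩ hψdeg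
  intro x hx
  have h1 := hker (QuotientGroup.mk' N x) (Subgroup.mem_map_of_mem _ hx)
  have h2 : ψ (QuotientGroup.mk' N x) = (χ : G → ℂ) x := hψχ x
  have h3 : ψ (QuotientGroup.mk' N x) = ψ 1 := h1
  rw [← h2, h3, hone]

/-- A normal subgroup lying in the kernel of every irreducible character of `p'`-degree lies in
`N P'`, where `N` is the largest normal subgroup with `C_N(P) = 1`. -/
theorem ker_le_core {G : Type u} [Group G] [Finite G] (p : ℕ) [Fact p.Prime] (P : Sylow p G)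
    (N : Subgroup G) [N.Normal]
    (hmax : ∀ L : Subgroup G, L.Normal →
      L ⊓ Subgroup.centralizer ((P : Subgroup G) : Set G) = ⊥ → L ≤ N)
    (K : Subgroup G) [hKn : K.Normal]
    (hK : ∀ g ∈ K, ∀ χ : Cfsg.IrrCharacter G, ¬ p ∣ Cfsg.charDegree (χ : G → ℂ) →
      (χ : G → ℂ) g = (χ : G → ℂ) 1) :
    K ≤ (N ⊔ ⁅(P : Subgroup G), (P : Subgroup G)⁆).normalCore := by
  classical
  have hp : p.Prime := Fact.out
  rw [Subgroup.normal_le_normalCore]
  have hKP : K ⊓ (P : Subgroup G) ≤ ⁅(P : Subgroup G), (P : Subgroup G)⁆ :=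
    fun x hx => mem_commutator_of_ker p P hx.2 (hK x hx.1)
  have hfr : K ⊓ (P : Subgroup G) ≤ (frattini (P : Subgroup G)).map (P : Subgroup G).subtype := by
    refine hKP.trans ?_
    rw [← Subgroup.map_subtype_commutator]
    exact Subgroup.map_mono (Cfsg.Agent.Lib.Helper2.commutator_le_frattini P.isPGroup')
  have hcomp := Cfsg.Agent.Lib.Helper55.tate_normal_pComplement P K hfr
  obtain ⟨K', hK'⟩ := Cfsg.Agent.Lib.Helper15.nx_pPrime_of_hasNormalPComplement hcomp
  set M : Subgroup G := K'.map K.subtype with hM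
  have hMK : M ≤ K := Subgroup.map_subtype_le K'
  haveI hMn : M.Normal := by
    constructor
    intro m hm g
    obtain ⟨k, hk, rfl⟩ := hm
    have hk' : (orderOf k).Coprime p := (hK' k).mp hk
    refine ⟨⟨g * (k : G) * g⁻¹, hKn.conj_mem _ k.2 g⟩, (hK' _).mpr ?_, rfl⟩
    rw [Subgroup.orderOf_mk, Cfsg.Agent.Lib.Helper15.nx_orderOf_conj, Subgroup.orderOf_coe]
    exact hk'
  have hpM : ¬ p ∣ Nat.card M := by
    have hcard : Nat.card K' = Nat.card M :=
      Nat.card_congr (Subgroup.equivMapOfInjective K' K.subtype K.subtype_injective).toEquiv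
    rw [← hcard]
    intro hdvd
    obtain ⟨x, hx⟩ := exists_prime_orderOf_dvd_card' p hdvd
    have h1 : (orderOf (x : K)).Coprime p := (hK' (x : K)).mp x.2
    rw [Subgroup.orderOf_coe, hx, Nat.coprime_self] at h1
    exact hp.one_lt.ne' h1
  have hMker : ∀ χ : Cfsg.IrrCharacter G, ¬ p ∣ Cfsg.charDegree (χ : G → ℂ) →
      ∀ m ∈ M, (χ : G → ℂ) m = (χ : G → ℂ) 1 := fun χ hχ m hm => hK m (hMK hm) χ hχ
  have hMfix := inf_centralizer_eq_bot p P M hpM hMker
  have hMN : M ≤ N := hmax M hMn hMfix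
  obtain ⟨PK, hPK⟩ := Cfsg.Agent.Lib.Helper11.exists_sylow_inf_normal P K
  have hsup := Cfsg.Agent.Lib.Helper15.nx_pPrime_sup_sylow PK K' hK'
  have hKeq : K = M ⊔ ((P : Subgroup G) ⊓ K) := by
    have h1 := congrArg (Subgroup.map K.subtype) hsup
    rw [Subgroup.map_sup, hPK, Subgroup.subgroupOf_map_subtype, ← MonoidHom.range_eq_map,
      Subgroup.range_subtype] at h1
    exact h1.symm
  rw [hKeq]
  refine sup_le (hMN.trans le_sup_left) ?_
  rw [inf_comm]
  exact hKP.trans le_sup_right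

end Cfsg.Agent.Lib.Helper61.PK
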